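import Mathlib
import Groth.Agent.Lib.Helper5.Kempf.C

set_option autoImplicit false

namespace Groth.Agent.Lib.Helper5.RatMax

open Matrix

variable {n : ℕ} (A : Matrix (Fin n) (Fin n) ℝ)

/-- the quadratic form -/
def q (y : Fin n → ℝ) : ℝ := y ⬝ᵥ A *ᵥ y

/-- the gradient-like vector `(Aᵀ + A) y` -/
def s (y : Fin n → ℝ) : Fin n → ℝ := y ᵥ* A + A *ᵥ y

theorem s_dot (y w : Fin n → ℝ) : s A y ⬝ᵥ w = y ⬝ᵥ A *ᵥ w + w ⬝ᵥ A *ᵥ y := by
  unfold s
  rw [add_dotProduct, ← dotProduct_mulVec, dotProduct_comm (A *ᵥ y) w]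

theorem s_dot_comm (y w : Fin n → ℝ) : s A y ⬝ᵥ w = s A w ⬝ᵥ y := by
  rw [s_dot, s_dot, add_comm]

theorem s_dot_self (w : Fin n → ℝ) : s A w ⬝ᵥ w = 2 * q A w := by
  rw [s_dot, q]; ring

theorem s_add (y w : Fin n → ℝ) : s A (y + w) = s A y + s A w := by
  unfold s
  rw [add_vecMul, mulVec_add]
  abel

theorem s_smul (c : ℝ) (y : Fin n → ℝ) : s A (c • y) = c • s A y := by
  unfold s
  rw [smul_vecMul, mulVec_smul, smul_add]

theorem s_sub (y w : Fin n → ℝ) : s A (y - w) = s A y - s A w := by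
  unfold s
  rw [sub_vecMul, mulVec_sub]
  abel

theorem s_neg (y : Fin n → ℝ) : s A (-y) = - s A y := by
  unfold s
  rw [neg_vecMul, mulVec_neg, neg_add]

theorem s_apply (y : Fin n → ℝ) (i : Fin n) :
    s A y i = ∑ j, y j * A j i + ∑ j, A i j * y j := by
  simp [s, vecMul, mulVec, dotProduct]

theorem q_add_smul (y w : Fin n → ℝ) (t : ℝ) :
    q A (y + t • w) = q A y + t * (s A y ⬝ᵥ w) + t ^ 2 * q A w := by
  rw [s_dot]
  unfold q
  rw [mulVec_add, mulVec_smul, dotProduct_add, add_dotProduct, add_dotProduct, smul_dotProduct,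
    dotProduct_smul, smul_dotProduct, dotProduct_smul]
  simp only [smul_eq_mul]
  ring

theorem q_smul (c : ℝ) (y : Fin n → ℝ) : q A (c • y) = c ^ 2 * q A y := by
  unfold q
  rw [mulVec_smul, smul_dotProduct, dotProduct_smul]
  simp only [smul_eq_mul]
  ring

end Groth.Agent.Lib.Helper5.RatMax
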