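import Mathlib
import Groth.Agent.Lib.Helper5.RatMax.A

set_option autoImplicit false

namespace Groth.Agent.Lib.Helper5.RatMax

open Matrix Filter Topology
open Groth.Agent.Lib.Helper5.Kempf (ev_pos lin_coeff_zero)

variable {n : ℕ} (A : Matrix (Fin n) (Fin n) ℝ) (l : Fin n → ℝ) (M : ℝ)

/-- `y` is a point of the orthant where the bound `l·z ≤ M √q(z)` is attained -/
def IsMaxAt (y : Fin n → ℝ) : Prop :=
  (∀ i, 0 ≤ y i) ∧ 0 < l ⬝ᵥ y ∧ l ⬝ᵥ y = M * Real.sqrt (q A y)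

variable {A l M}

theorem IsMaxAt.ne_zero {y : Fin n → ℝ} (hy : IsMaxAt A l M y) : y ≠ 0 := by
  intro h0
  have := hy.2.1
  rw [h0, dotProduct_zero] at this
  exact lt_irrefl _ this

section FOC
variable (hM : 0 < M)
  (hpos : ∀ z : Fin n → ℝ, (∀ i, 0 ≤ z i) → z ≠ 0 → 0 < q A z)
  (hbound : ∀ z : Fin n → ℝ, (∀ i, 0 ≤ z i) → z ≠ 0 → l ⬝ᵥ z ≤ M * Real.sqrt (q A z))

include hM hpos hbound in
theorem foc {y : Fin n → ℝ} (hy : IsMaxAt A l M y) (w : Fin n → ℝ)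
    (hw : ∀ i, y i = 0 → w i = 0) :
    2 * (l ⬝ᵥ y) * (l ⬝ᵥ w) = M ^ 2 * (s A y ⬝ᵥ w) := by
  obtain ⟨hy0, hyl, hyeq⟩ := hy
  have hQ : 0 < q A y := hpos y hy0 (IsMaxAt.ne_zero ⟨hy0, hyl, hyeq⟩)
  have hsq : (l ⬝ᵥ y) ^ 2 = M ^ 2 * q A y := by
    rw [hyeq, mul_pow, Real.sq_sqrt hQ.le]
  have h1 : ∀ᶠ t in 𝓝 (0 : ℝ), ∀ i, 0 ≤ (y + t • w) i := by
    rw [Filter.eventually_all]
    intro i
    by_cases h0 : y i = 0
    · refine Filter.Eventually.of_forall (fun t => ?_)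
      simp [h0, hw i h0]
    · have hp : 0 < y i := lt_of_le_of_ne (hy0 i) (Ne.symm h0)
      refine (ev_pos (y i) (w i) hp).mono (fun t ht => ?_)
      simp only [Pi.add_apply, Pi.smul_apply, smul_eq_mul]
      exact ht.le
  have h3 : ∀ᶠ t in 𝓝 (0 : ℝ), 0 < l ⬝ᵥ y + t * (l ⬝ᵥ w) := ev_pos _ _ hyl
  have key : ∀ᶠ t in 𝓝 (0 : ℝ),
      (2 * (l ⬝ᵥ y) * (l ⬝ᵥ w) - M ^ 2 * (s A y ⬝ᵥ w)) * t +
        ((l ⬝ᵥ w) ^ 2 - M ^ 2 * q A w) * t ^ 2 ≤ 0 := by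
    filter_upwards [h1, h3] with t ht1 ht3
    have hl : l ⬝ᵥ (y + t • w) = l ⬝ᵥ y + t * (l ⬝ᵥ w) := by
      rw [dotProduct_add, dotProduct_smul, smul_eq_mul]
    have hne : y + t • w ≠ 0 := by
      intro h0
      rw [h0, dotProduct_zero] at hl
      linarith
    have h4 := hbound _ ht1 hne
    have hq0 := hpos _ ht1 hne
    rw [hl] at h4
    have h5 : (l ⬝ᵥ y + t * (l ⬝ᵥ w)) ^ 2 ≤ (M * Real.sqrt (q A (y + t • w))) ^ 2 :=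
      pow_le_pow_left₀ ht3.le h4 2
    rw [mul_pow, Real.sq_sqrt hq0.le, q_add_smul] at h5
    nlinarith
  have hb := lin_coeff_zero _ _ key
  linarith

end FOC

end Groth.Agent.Lib.Helper5.RatMax
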