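import Mathlib
import Groth.Agent.Lib.Helper5.RatMax.B

set_option autoImplicit false

namespace Groth.Agent.Lib.Helper5.RatMax

open Matrix

variable {n : ℕ} {A : Matrix (Fin n) (Fin n) ℝ} {l : Fin n → ℝ} {M : ℝ}

theorem dot_eq_zero_of_supp (a b y : Fin n → ℝ) (h : ∀ i, y i = 0 ∨ a i = 0)
    (hb : ∀ i, y i = 0 → b i = 0) : a ⬝ᵥ b = 0 := by
  unfold dotProduct
  apply Finset.sum_eq_zero
  intro i _
  rcases h i with h0 | h0
  · rw [hb i h0, mul_zero]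
  · rw [h0, zero_mul]

theorem descend_neg {y' : Fin n → ℝ} (hy' : IsMaxAt A l M y')
    (hfoc : ∀ i, y' i ≠ 0 → s A y' i = l i)
    (u : Fin n → ℝ) (hu0 : ∀ i, y' i = 0 → u i = 0) (hsu : ∀ i, y' i ≠ 0 → s A u i = 0)
    (hneg : ∃ i, u i < 0) :
    ∃ y'' : Fin n → ℝ, IsMaxAt A l M y'' ∧ (∀ i, y' i = 0 → y'' i = 0) ∧
      ∃ i₀, y' i₀ ≠ 0 ∧ y'' i₀ = 0 := by
  classical
  obtain ⟨hy0, hyl, hyeq⟩ := hy'
  let N : Finset (Fin n) := Finset.univ.filter (fun i => u i < 0)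
  have hN : N.Nonempty := by
    obtain ⟨i, hi⟩ := hneg
    exact ⟨i, Finset.mem_filter.mpr ⟨Finset.mem_univ _, hi⟩⟩
  obtain ⟨i₀, hi₀N, hmin⟩ := Finset.exists_min_image N (fun i => y' i / (-u i)) hN
  have hui₀ : u i₀ < 0 := (Finset.mem_filter.mp hi₀N).2
  have hy'i₀ : y' i₀ ≠ 0 := fun h0 => hui₀.ne (hu0 i₀ h0)
  have hy'pos : 0 < y' i₀ := lt_of_le_of_ne (hy0 i₀) (Ne.symm hy'i₀)
  set t : ℝ := y' i₀ / (-u i₀) with ht
  have ht0 : 0 < t := div_pos hy'pos (by linarith)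
  -- key vanishing
  have hsu' : ∀ i, y' i = 0 ∨ s A u i = 0 := by
    intro i
    by_cases h : y' i = 0
    · exact Or.inl h
    · exact Or.inr (hsu i h)
  have e1 : s A u ⬝ᵥ y' = 0 := by
    unfold dotProduct
    apply Finset.sum_eq_zero
    intro i _
    rcases hsu' i with h | h
    · rw [h, mul_zero]
    · rw [h, zero_mul]
  have e2 : s A u ⬝ᵥ u = 0 := dot_eq_zero_of_supp _ _ y' hsu' hu0
  have e3 : s A y' ⬝ᵥ u = 0 := by rw [s_dot_comm, e1]
  have e4 : l ⬝ᵥ u = 0 := by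
    rw [← e3]
    unfold dotProduct
    apply Finset.sum_congr rfl
    intro i _
    by_cases h : y' i = 0
    · rw [hu0 i h, mul_zero, mul_zero]
    · rw [hfoc i h]
  have e5 : q A u = 0 := by
    have := s_dot_self A u
    rw [e2] at this
    linarith
  refine ⟨y' + t • u, ⟨?_, ?_, ?_⟩, ?_, i₀, hy'i₀, ?_⟩
  · intro i
    simp only [Pi.add_apply, Pi.smul_apply, smul_eq_mul]
    by_cases hi : u i < 0
    · have hiN : i ∈ N := Finset.mem_filter.mpr ⟨Finset.mem_univ _, hi⟩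
      have h1 := hmin i hiN
      have h2 : t ≤ y' i / (-u i) := h1
      rw [le_div_iff₀ (by linarith)] at h2
      linarith
    · push Not at hi
      have := hy0 i
      nlinarith
  · rw [dotProduct_add, dotProduct_smul, e4, smul_zero, add_zero]
    exact hyl
  · rw [dotProduct_add, dotProduct_smul, e4, smul_zero, add_zero, q_add_smul, e3, e5, hyeq]
    simp
  · intro i h0
    simp [h0, hu0 i h0]
  · simp only [Pi.add_apply, Pi.smul_apply, smul_eq_mul, ht]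
    have hu' : u i₀ ≠ 0 := hui₀.ne
    rw [div_neg, neg_mul, div_mul_cancel₀ _ hu', add_neg_cancel]

theorem descend {y' : Fin n → ℝ} (hy' : IsMaxAt A l M y')
    (hfoc : ∀ i, y' i ≠ 0 → s A y' i = l i)
    (u : Fin n → ℝ) (hu0 : ∀ i, y' i = 0 → u i = 0) (hsu : ∀ i, y' i ≠ 0 → s A u i = 0)
    (hne : u ≠ 0) :
    ∃ y'' : Fin n → ℝ, IsMaxAt A l M y'' ∧ (∀ i, y' i = 0 → y'' i = 0) ∧
      ∃ i₀, y' i₀ ≠ 0 ∧ y'' i₀ = 0 := by
  have : ∃ i, u i ≠ 0 := by
    by_contra hcon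
    push Not at hcon
    exact hne (funext hcon)
  obtain ⟨i, hi⟩ := this
  rcases lt_or_gt_of_ne hi with h | h
  · exact descend_neg hy' hfoc u hu0 hsu ⟨i, h⟩
  · apply descend_neg hy' hfoc (-u)
    · intro j hj
      simp [hu0 j hj]
    · intro j hj
      rw [s_neg, Pi.neg_apply, hsu j hj, neg_zero]
    · exact ⟨i, by simpa using h⟩

end Groth.Agent.Lib.Helper5.RatMax
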