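import Mathlib
import Groth.Agent.Lib.Helper5.RatMax.C
import Groth.Agent.Lib.Helper5.Kempf.A

set_option autoImplicit false

namespace Groth.Agent.Lib.Helper5.RatMax

open Matrix
open Groth.Agent.Lib.Helper5.Kempf (exists_ratProj ratProj_mul ratProj_mul')

variable {n : ℕ} {A : Matrix (Fin n) (Fin n) ℝ} {l : Fin n → ℝ}

/-- Step 1: existence of a real maximizer -/
theorem exists_isMaxAt
    (hpos : ∀ z : Fin n → ℝ, (∀ i, 0 ≤ z i) → z ≠ 0 → 0 < q A z)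
    (hl : ∃ y : Fin n → ℝ, (∀ i, 0 ≤ y i) ∧ 0 < l ⬝ᵥ y) :
    ∃ (M : ℝ) (y : Fin n → ℝ), 0 < M ∧ IsMaxAt A l M y ∧
      ∀ z : Fin n → ℝ, (∀ i, 0 ≤ z i) → z ≠ 0 → l ⬝ᵥ z ≤ M * Real.sqrt (q A z) := by
  obtain ⟨y₀, hy₀, hly₀⟩ := hl
  have hy₀ne : y₀ ≠ 0 := by
    intro h0
    rw [h0, dotProduct_zero] at hly₀
    exact lt_irrefl _ hly₀
  -- normalisation
  have hsum : ∀ z : Fin n → ℝ, (∀ i, 0 ≤ z i) → z ≠ 0 → 0 < ∑ i, z i := by
    intro z hz hz0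
    have : ∃ i, z i ≠ 0 := by
      by_contra hcon
      push Not at hcon
      exact hz0 (funext hcon)
    obtain ⟨i, hi⟩ := this
    exact Finset.sum_pos' (fun i _ => hz i) ⟨i, Finset.mem_univ _, lt_of_le_of_ne (hz i) (Ne.symm hi)⟩
  have hnorm : ∀ z : Fin n → ℝ, (∀ i, 0 ≤ z i) → z ≠ 0 → (∑ i, z i)⁻¹ • z ∈ stdSimplex ℝ (Fin n) := by
    intro z hz hz0
    have hs := hsum z hz hz0
    refine ⟨fun i => ?_, ?_⟩
    · simp only [Pi.smul_apply, smul_eq_mul]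
      exact mul_nonneg (inv_nonneg.mpr hs.le) (hz i)
    · simp only [Pi.smul_apply, smul_eq_mul]
      rw [← Finset.mul_sum, inv_mul_cancel₀ hs.ne']
  have hsimp_ne : ∀ z ∈ stdSimplex ℝ (Fin n), z ≠ 0 := by
    intro z hz h0
    have := hz.2
    rw [h0] at this
    simp at this
  have hcont : ContinuousOn (fun y : Fin n → ℝ => l ⬝ᵥ y / Real.sqrt (q A y)) (stdSimplex ℝ (Fin n)) := by
    apply ContinuousOn.div
    · exact (Continuous.dotProduct continuous_const continuous_id).continuousOn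
    · apply Continuous.continuousOn
      apply Real.continuous_sqrt.comp
      unfold q
      exact Continuous.dotProduct continuous_id (Continuous.matrix_mulVec continuous_const continuous_id)
    · intro z hz
      exact (Real.sqrt_pos.mpr (hpos z hz.1 (hsimp_ne z hz))).ne'
  obtain ⟨y, hyS, hymax⟩ := (isCompact_stdSimplex ℝ (Fin n)).exists_isMaxOn
    ⟨_, hnorm y₀ hy₀ hy₀ne⟩ hcont
  have hyne := hsimp_ne y hyS
  have hqy : 0 < Real.sqrt (q A y) := Real.sqrt_pos.mpr (hpos y hyS.1 hyne)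
  set M : ℝ := l ⬝ᵥ y / Real.sqrt (q A y) with hM
  have hbound : ∀ z : Fin n → ℝ, (∀ i, 0 ≤ z i) → z ≠ 0 → l ⬝ᵥ z ≤ M * Real.sqrt (q A z) := by
    intro z hz hz0
    have hs := hsum z hz hz0
    have hz' := hnorm z hz hz0
    have h1 : l ⬝ᵥ ((∑ i, z i)⁻¹ • z) / Real.sqrt (q A ((∑ i, z i)⁻¹ • z)) ≤ M := hymax hz'
    have hc : 0 < (∑ i, z i)⁻¹ := inv_pos.mpr hs
    rw [dotProduct_smul, q_smul, smul_eq_mul, Real.sqrt_mul (sq_nonneg _), Real.sqrt_sq hc.le] at h1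
    have hqz : 0 < Real.sqrt (q A z) := Real.sqrt_pos.mpr (hpos z hz hz0)
    rw [div_le_iff₀ (mul_pos hc hqz)] at h1
    have h2 : (∑ i, z i)⁻¹ * l ⬝ᵥ z ≤ (∑ i, z i)⁻¹ * (M * Real.sqrt (q A z)) := by linarith
    exact le_of_mul_le_mul_left h2 hc
  have hMpos : 0 < M := by
    have h1 := hbound y₀ hy₀ hy₀ne
    by_contra hcon
    push Not at hcon
    have : M * Real.sqrt (q A y₀) ≤ 0 := mul_nonpos_of_nonpos_of_nonneg hcon (Real.sqrt_nonneg _)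
    linarith
  refine ⟨M, y, hMpos, ⟨hyS.1, ?_, ?_⟩, hbound⟩
  · have : l ⬝ᵥ y = M * Real.sqrt (q A y) := by rw [hM, div_mul_cancel₀ _ hqy.ne']
    rw [this]
    exact mul_pos hMpos hqy
  · rw [hM, div_mul_cancel₀ _ hqy.ne']

end Groth.Agent.Lib.Helper5.RatMax
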