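import Mathlib
import Groth.Agent.Lib.Helper5.RatMax.D

set_option autoImplicit false

namespace Groth.Agent.Lib.Helper5.RatMax

open Matrix
open Groth.Agent.Lib.Helper5.Kempf (exists_ratProj ratProj_mul ratProj_mul')

theorem main19138 (n : ℕ) (ℓ : Fin n → ℚ)
    (B : Matrix (Fin n) (Fin n) ℚ)
    (hnn : ∀ y : Fin n → ℝ, 0 ≤ y ⬝ᵥ (B.map (fun r : ℚ => (r : ℝ))) *ᵥ y)
    (hpos : ∀ y : Fin n → ℝ, (∀ i, 0 ≤ y i) → y ≠ 0 → 0 < y ⬝ᵥ (B.map (fun r : ℚ => (r : ℝ))) *ᵥ y)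
    (hℓ : ∃ y : Fin n → ℝ, (∀ i, 0 ≤ y i) ∧ 0 < (fun i => (ℓ i : ℝ)) ⬝ᵥ y) :
    ∃ x : Fin n → ℚ, (∀ i, 0 ≤ x i) ∧ x ≠ 0 ∧
      ∀ y : Fin n → ℝ, (∀ i, 0 ≤ y i) → y ≠ 0 →
        (fun i => (ℓ i : ℝ)) ⬝ᵥ y / Real.sqrt (y ⬝ᵥ (B.map (fun r : ℚ => (r : ℝ))) *ᵥ y) ≤
          (fun i => (ℓ i : ℝ)) ⬝ᵥ (fun i => (x i : ℝ)) /
            Real.sqrt ((fun i => (x i : ℝ)) ⬝ᵥ (B.map (fun r : ℚ => (r : ℝ))) *ᵥ (fun i => (x i : ℝ))) := by
  classical
  set A : Matrix (Fin n) (Fin n) ℝ := B.map (fun r : ℚ => (r : ℝ)) with hA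
  set l : Fin n → ℝ := fun i => (ℓ i : ℝ) with hl
  have hpos' : ∀ z : Fin n → ℝ, (∀ i, 0 ≤ z i) → z ≠ 0 → 0 < q A z := hpos
  obtain ⟨M, y₁, hM, hy₁, hbound⟩ := exists_isMaxAt (A := A) (l := l) hpos' hℓ
  -- minimal support
  let supp : (Fin n → ℝ) → Finset (Fin n) := fun y => Finset.univ.filter (fun i => y i ≠ 0)
  let P : ℕ → Prop := fun k => ∃ y, IsMaxAt A l M y ∧ (supp y).card = k
  have hP : ∃ k, P k := ⟨_, y₁, hy₁, rfl⟩
  obtain ⟨y, hy, hycard⟩ := Nat.find_spec hP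
  have hmin : ∀ y', IsMaxAt A l M y' → (supp y).card ≤ (supp y').card := by
    intro y' hy'
    rw [hycard]
    exact Nat.find_min' hP ⟨y', hy', rfl⟩
  -- rescale
  have hL : 0 < l ⬝ᵥ y := hy.2.1
  set c : ℝ := M ^ 2 / (2 * (l ⬝ᵥ y)) with hc
  have hc0 : 0 < c := by positivity
  set y' : Fin n → ℝ := c • y with hy'def
  have hy' : IsMaxAt A l M y' := by
    refine ⟨fun i => ?_, ?_, ?_⟩
    · simp only [hy'def, Pi.smul_apply, smul_eq_mul]
      exact mul_nonneg hc0.le (hy.1 i)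
    · rw [hy'def, dotProduct_smul, smul_eq_mul]
      exact mul_pos hc0 hL
    · rw [hy'def, dotProduct_smul, smul_eq_mul, q_smul, Real.sqrt_mul (sq_nonneg _),
        Real.sqrt_sq hc0.le, hy.2.2]
      ring
  have hsupp : ∀ i, y' i = 0 ↔ y i = 0 := by
    intro i
    simp only [hy'def, Pi.smul_apply, smul_eq_mul, mul_eq_zero, hc0.ne', false_or]
  have hsuppeq : supp y' = supp y := by
    ext i
    simp only [supp, Finset.mem_filter, Finset.mem_univ, true_and, ne_eq, hsupp]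
  have hfoc : ∀ i, y' i ≠ 0 → s A y' i = l i := by
    intro i hi
    have hyi : y i ≠ 0 := fun h => hi ((hsupp i).mpr h)
    have h1 := foc hM hpos' hbound hy (Pi.single i 1) (by
      intro j hj
      have : j ≠ i := fun h => hyi (h ▸ hj)
      simp [Pi.single_apply, this])
    rw [dotProduct_single, dotProduct_single, mul_one, mul_one] at h1
    rw [hy'def, s_smul, Pi.smul_apply, smul_eq_mul, hc]
    have h2 : (2 * (l ⬝ᵥ y)) ≠ 0 := by positivity
    field_simp
    linarith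
  -- the rational candidate
  obtain ⟨π, hπ⟩ := exists_ratProj
  let x : Fin n → ℚ := fun j => π (y' j)
  let z : Fin n → ℝ := fun j => ((x j : ℚ) : ℝ)
  have hz0 : ∀ i, y' i = 0 → z i = 0 := by
    intro i hi
    simp only [z, x, hi, map_zero, Rat.cast_zero]
  have hsz : ∀ i, y' i ≠ 0 → s A z i = l i := by
    intro i hi
    have h1 := hfoc i hi
    rw [s_apply] at h1
    have h2 := congrArg π h1
    rw [map_add, map_sum, map_sum] at h2
    have e1 : ∀ j, π (y' j * A j i) = π (y' j) * B j i := by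
      intro j
      rw [hA, Matrix.map_apply, ratProj_mul']
    have e2 : ∀ j, π (A i j * y' j) = B i j * π (y' j) := by
      intro j
      rw [hA, Matrix.map_apply, ratProj_mul]
    rw [Finset.sum_congr rfl (fun j _ => e1 j), Finset.sum_congr rfl (fun j _ => e2 j)] at h2
    have h3 : π (l i) = ℓ i := hπ (ℓ i)
    rw [h3] at h2
    rw [s_apply]
    have h4 := congrArg (fun r : ℚ => (r : ℝ)) h2
    simp only [Rat.cast_add, Rat.cast_sum, Rat.cast_mul] at h4
    simpa [z, x, hA] using h4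
  have hzy : z = y' := by
    by_contra hne
    have hu : z - y' ≠ 0 := sub_ne_zero.mpr hne
    obtain ⟨y'', hy'', hsub, i₀, hi₀, hi₀'⟩ := descend hy' hfoc (z - y')
      (fun i hi => by simp [hz0 i hi, hi])
      (fun i hi => by rw [s_sub, Pi.sub_apply, hsz i hi, hfoc i hi, sub_self]) hu
    have h1 := hmin y'' hy''
    have h2 : supp y'' ⊂ supp y' := by
      rw [Finset.ssubset_iff_of_subset]
      · refine ⟨i₀, ?_, ?_⟩
        · simp only [supp, Finset.mem_filter, Finset.mem_univ, true_and]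
          exact hi₀
        · simp only [supp, Finset.mem_filter, Finset.mem_univ, true_and, not_not]
          exact hi₀'
      · intro i hi
        simp only [supp, Finset.mem_filter, Finset.mem_univ, true_and] at hi ⊢
        exact fun h => hi (hsub i h)
    have h3 := Finset.card_lt_card h2
    rw [hsuppeq] at h3
    omega
  have hxy : (fun i => (x i : ℝ)) = y' := hzy
  refine ⟨x, ?_, ?_, ?_⟩
  · intro i
    have h1 : (0 : ℝ) ≤ (x i : ℝ) := by
      have h5 : (x i : ℝ) = y' i := congrFun hxy i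
      rw [h5]
      exact hy'.1 i
    exact_mod_cast h1
  · intro h0
    apply hy'.ne_zero
    rw [← hxy, h0]
    funext i
    simp
  · intro w hw hw0
    rw [hxy]
    have hqw : 0 < Real.sqrt (q A w) := Real.sqrt_pos.mpr (hpos' w hw hw0)
    have hqy : 0 < Real.sqrt (q A y') := Real.sqrt_pos.mpr (hpos' y' hy'.1 hy'.ne_zero)
    have h1 : l ⬝ᵥ w / Real.sqrt (q A w) ≤ M := by
      rw [div_le_iff₀ hqw]
      exact hbound w hw hw0
    have h2 : l ⬝ᵥ y' / Real.sqrt (q A y') = M := by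
      rw [hy'.2.2, mul_div_assoc, div_self hqy.ne', mul_one]
    exact h1.trans h2.ge

end Groth.Agent.Lib.Helper5.RatMax
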